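import Groth.Agent.Sga3.H772.Equalizer

/-!
# Flatness over finitely generated subalgebras of the equalizer
-/

set_option autoImplicit false
universe u

open TensorProduct

namespace Groth.Agent.Sga3.H772.FlatOver

open Groth.Agent.Sga3.H772.Equalizer Groth.Agent.Sga3.H772.Split

/-- an idempotent complementary to a generator of `IT` equalizes the two maps `T → T ⊗[S] T` -/
theorem idem_tmul {S T : Type u} [CommRing S] [CommRing T] [Algebra S T] (I : Ideal S) (f : T)
    (hf : IsIdempotentElem f) (hI : I.map (algebraMap S T) = Ideal.span {f}) :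
    (1 - f) ⊗ₜ[S] (1 : T) = (1 : T) ⊗ₜ[S] (1 - f) := by
  have hef : (1 - f) * f = 0 := by rw [sub_mul, one_mul, hf.eq, sub_self]
  have h0 : ∀ s ∈ I, s • (1 - f) = 0 := by
    intro s hs
    have h1 : algebraMap S T s ∈ Ideal.span {f} := hI ▸ Ideal.mem_map_of_mem _ hs
    obtain ⟨a, ha⟩ := Ideal.mem_span_singleton'.mp h1
    rw [Algebra.smul_def, ← ha, mul_assoc, mul_comm f, hef, mul_zero]
  have key : ∀ x ∈ I.map (algebraMap S T), (1 - f) ⊗ₜ[S] x = 0 ∧ x ⊗ₜ[S] (1 - f) = 0 := by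
    intro x hx
    rw [Ideal.map] at hx
    induction hx using Submodule.span_induction with
    | mem x hx =>
      obtain ⟨s, hs, rfl⟩ := hx
      rw [Algebra.algebraMap_eq_smul_one]
      constructor
      · rw [← TensorProduct.smul_tmul, h0 s hs, TensorProduct.zero_tmul]
      · rw [TensorProduct.smul_tmul, h0 s hs, TensorProduct.tmul_zero]
    | zero => simp
    | add x y _ _ hx hy => simp [TensorProduct.tmul_add, TensorProduct.add_tmul, hx.1, hx.2, hy.1, hy.2]
    | smul a x _ hx =>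
      have h1 : (1 - f) ⊗ₜ[S] (a • x) = ((1 : T) ⊗ₜ[S] a) * ((1 - f) ⊗ₜ[S] x) := by
        rw [Algebra.TensorProduct.tmul_mul_tmul, one_mul, smul_eq_mul]
      have h2 : (a • x) ⊗ₜ[S] (1 - f) = (a ⊗ₜ[S] (1 : T)) * (x ⊗ₜ[S] (1 - f)) := by
        rw [Algebra.TensorProduct.tmul_mul_tmul, one_mul, smul_eq_mul]
      rw [h1, h2, hx.1, hx.2, mul_zero, mul_zero]
      exact ⟨rfl, rfl⟩
  have hfm : f ∈ I.map (algebraMap S T) := hI ▸ Ideal.mem_span_singleton_self f
  obtain ⟨h1, h2⟩ := key f hfm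
  calc (1 - f) ⊗ₜ[S] (1 : T) = (1 - f) ⊗ₜ[S] ((1 - f) + f) := by rw [sub_add_cancel]
    _ = ((1 - f) + f) ⊗ₜ[S] (1 - f) := by
      rw [TensorProduct.tmul_add, TensorProduct.add_tmul, h1, h2]
    _ = (1 : T) ⊗ₜ[S] (1 - f) := by rw [sub_add_cancel]

/-- a surjection onto which the flatness of a factorization can be tested -/
theorem flat_of_surjective_idem {P R T' : Type u} [CommRing P] [CommRing R] [CommRing T']
    (ψ : P →+* T') (c : R →+* T') (hc : c.FaithfullyFlat) (l : R → P) (e : P)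
    (he : IsIdempotentElem e) (hψe : ψ e = 1)
    (hker : ∀ x, ψ x = 0 → e * x = 0) (hl : ∀ r, ψ (l r) = c r)
    (hrange : ∀ x, ∃ r, ψ x = c r) : ψ.Flat := by
  let J : Ideal P := Ideal.span {1 - e}
  have hJ : ∀ x, x ∈ J ↔ ψ x = 0 := by
    intro x
    constructor
    · intro hx
      obtain ⟨a, rfl⟩ := Ideal.mem_span_singleton'.mp hx
      rw [map_mul, map_sub, map_one, hψe, sub_self, mul_zero]
    · intro hx
      have h1 := hker x hx
      have h2 : x = x * (1 - e) := by rw [mul_sub, mul_one, mul_comm x e, h1, sub_zero]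
      rw [h2]
      exact Ideal.mul_mem_left _ _ (Ideal.mem_span_singleton_self _)
  let θ : P ⧸ J →+* T' := Ideal.Quotient.lift J ψ (fun a ha => (hJ a).mp ha)
  have hθinj : Function.Injective θ := by
    rw [injective_iff_map_eq_zero]
    intro x hx
    obtain ⟨x, rfl⟩ := Ideal.Quotient.mk_surjective x
    rw [Ideal.Quotient.eq_zero_iff_mem, hJ]
    exact hx
  have hθr : θ.range = c.range := by
    ext y
    constructor
    · rintro ⟨x, rfl⟩
      obtain ⟨x, rfl⟩ := Ideal.Quotient.mk_surjective x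
      obtain ⟨r, hr⟩ := hrange x
      exact ⟨r, hr.symm⟩
    · rintro ⟨r, rfl⟩
      exact ⟨Ideal.Quotient.mk J (l r), hl r⟩
  -- the isomorphism `R ≃ P ⧸ J`
  let eθ : P ⧸ J ≃+* θ.range := RingEquiv.ofBijective θ.rangeRestrict
    ⟨fun a b hab => hθinj (congrArg Subtype.val hab), θ.rangeRestrict_surjective⟩
  let ec : R ≃+* c.range := RingEquiv.ofBijective c.rangeRestrict
    ⟨fun a b hab => hc.injective (congrArg Subtype.val hab), c.rangeRestrict_surjective⟩
  let m : R ≃+* P ⧸ J := (ec.trans (RingEquiv.subringCongr hθr.symm)).trans eθ.symm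
  have hm : θ.comp m.toRingHom = c := by
    ext r
    change θ (eθ.symm ((RingEquiv.subringCongr hθr.symm) (ec r))) = c r
    have h1 : ∀ z : θ.range, θ (eθ.symm z) = z := fun z => by
      obtain ⟨w, rfl⟩ := eθ.surjective z
      rw [RingEquiv.symm_apply_apply]
      rfl
    rw [h1]
    rfl
  have hθ : θ.Flat := by
    have h1 : (θ.comp m.toRingHom).Flat := by rw [hm]; exact hc.flat
    exact (RingHom.Flat.comp_iff_of_bijective_right (f := θ) (g := m.toRingHom) m.bijective).mp h1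
  have hq : (Ideal.Quotient.mk J).Flat := by
    have hid : IsIdempotentElem J := by
      rw [Ideal.isIdempotentElem_iff_of_fg _ ⟨{1 - e}, by simp [J]⟩]
      exact ⟨1 - e, he.one_sub, rfl⟩
    have h2 : J.Pure := Ideal.Pure.of_isIdempotentElem ⟨{1 - e}, by simp [J]⟩ hid
    exact RingHom.flat_algebraMap_iff.mpr h2
  have h3 := RingHom.Flat.comp hq hθ
  exact h3

theorem tmul_one_map {S R T Tb : Type u} [CommRing S] [CommRing R] [CommRing T] [CommRing Tb]
    [Algebra S T] [Algebra S R] [Algebra R Tb] [Algebra S Tb] [IsScalarTower S R Tb]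
    (mk : T →ₐ[S] Tb) (x : T) (h : x ⊗ₜ[S] (1 : T) = (1 : T) ⊗ₜ[S] x) :
    mk x ⊗ₜ[R] (1 : Tb) = (1 : Tb) ⊗ₜ[R] mk x := by
  let φl : T →ₐ[S] Tb ⊗[R] Tb :=
    ((Algebra.TensorProduct.includeLeft : Tb →ₐ[R] Tb ⊗[R] Tb).restrictScalars S).comp mk
  let φr : T →ₐ[S] Tb ⊗[R] Tb :=
    ((Algebra.TensorProduct.includeRight : Tb →ₐ[R] Tb ⊗[R] Tb).restrictScalars S).comp mk
  let φ : T ⊗[S] T →ₐ[S] Tb ⊗[R] Tb :=
    Algebra.TensorProduct.lift φl φr (fun x y => mul_comm (φl x) (φr y))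
  have h3 : φl x * φr 1 = φl 1 * φr x := congrArg φ h
  rw [map_one φl, map_one φr, mul_one, one_mul] at h3
  exact h3

/-- the ring maps `S ⊗ D → (S ⊗ B) / I` are flat for all large `D ≤ selfEq A B` -/
theorem flat_mk_incl {A B S : Type u} [CommRing A] [CommRing B] [CommRing S] [Algebra A B]
    [Algebra A S] [Module.Flat A S] (I : Ideal S)
    [Module.FaithfullyFlat (S ⧸ I) ((S ⊗[A] B) ⧸ I.map (algebraMap S (S ⊗[A] B)))]
    (f : S ⊗[A] B) (hf : IsIdempotentElem f)
    (hfI : I.map (algebraMap S (S ⊗[A] B)) = Ideal.span {f})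
    (D : Subalgebra A B) (hD : D ≤ selfEq A B) (hfD : 1 - f ∈ Set.range (incl S D)) :
    ((Ideal.Quotient.mk (I.map (algebraMap S (S ⊗[A] B)))).comp (incl S D).toRingHom).Flat := by
  obtain ⟨e, he⟩ := hfD
  have hinj := incl_injective S D
  let Tb := (S ⊗[A] B) ⧸ I.map (algebraMap S (S ⊗[A] B))
  have hf0 : Ideal.Quotient.mk (I.map (algebraMap S (S ⊗[A] B))) f = 0 :=
    Ideal.Quotient.eq_zero_iff_mem.mpr (hfI ▸ Ideal.mem_span_singleton_self f)
  refine flat_of_surjective_idem _ (algebraMap (S ⧸ I) Tb)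
    (RingHom.faithfullyFlat_algebraMap_iff.mpr inferInstance)
    (fun r => algebraMap S (S ⊗[A] D) (Quotient.out r)) e ?_ ?_ ?_ ?_ ?_
  · apply hinj
    rw [map_mul, he]
    exact hf.one_sub
  · change Ideal.Quotient.mk _ (incl S D e) = 1
    rw [he, map_sub, hf0, sub_zero, map_one]
  · intro x hx
    apply hinj
    rw [map_mul, he, map_zero]
    have h1 : incl S D x ∈ Ideal.span {f} := by
      rw [← hfI]
      exact Ideal.Quotient.eq_zero_iff_mem.mp hx
    obtain ⟨a, ha⟩ := Ideal.mem_span_singleton'.mp h1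
    rw [← ha, mul_comm a f, ← mul_assoc, sub_mul, one_mul, hf.eq, sub_self, zero_mul]
  · intro r
    have h1 : Ideal.Quotient.mk I (Quotient.out r) = r := Quotient.out_eq r
    change Ideal.Quotient.mk _ (incl S D (algebraMap S (S ⊗[A] D) (Quotient.out r))) = _
    rw [AlgHom.commutes]
    conv_rhs => rw [← h1]
    rfl
  · intro x
    have h1 := tmul_one_eq_of_mem_range S D hD x
    let y : Tb := Ideal.Quotient.mk _ (incl S D x)
    have h2 : y ⊗ₜ[S ⧸ I] (1 : Tb) = (1 : Tb) ⊗ₜ[S ⧸ I] y := by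
      exact tmul_one_map (S := S) (R := S ⧸ I) (Ideal.Quotient.mkₐ S _) _ h1
    have h3 : Algebra.TensorProduct.includeLeftSubRight (S ⧸ I) Tb y = 0 := by
      rw [Algebra.TensorProduct.includeLeftSubRight_apply, h2, sub_self]
    obtain ⟨r, hr⟩ := (Algebra.IsEffective.of_faithfullyFlat (S ⧸ I) Tb y).mp h3
    exact ⟨r, hr.symm⟩

theorem exists_fg_flat {A B S : Type u} [CommRing A] [CommRing B] [CommRing S] [Algebra A B]
    [Algebra A S] [Module.Flat A S] (I : Ideal S) (hI : I.FG)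
    [Module.Flat (S ⊗[A] B) ((S ⊗[A] B) ⧸ I.map (algebraMap S (S ⊗[A] B)))]
    [Module.FaithfullyFlat (S ⧸ I) ((S ⊗[A] B) ⧸ I.map (algebraMap S (S ⊗[A] B)))] :
    ∃ D : Subalgebra A B, D.FG ∧ D ≤ selfEq A B ∧
      (((Ideal.Quotient.mk (I.map (algebraMap S (S ⊗[A] B)))).comp
        (Algebra.TensorProduct.includeRight : B →ₐ[A] S ⊗[A] B).toRingHom).comp
          D.val.toRingHom).Flat := by
  have hJ : IsIdempotentElem (I.map (algebraMap S (S ⊗[A] B))) :=
    Ideal.isIdempotentElem_of_pure _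
  rw [Ideal.isIdempotentElem_iff_of_fg _ (hI.map _)] at hJ
  obtain ⟨f, hf, hfI⟩ := hJ
  have h1 := idem_tmul I f hf hfI
  obtain ⟨D, hDfg, hD, hfD⟩ := exists_fg_of_mem_range S _ _ (mem_range_incl_selfEq S _ h1)
  refine ⟨D, hDfg, hD, ?_⟩
  have h2 := flat_mk_incl I f hf hfI D hD hfD
  have h3 := includeRight_flat A S D
  have h4 := RingHom.Flat.comp h3 h2
  convert! h4 using 1

end Groth.Agent.Sga3.H772.FlatOver
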