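import Groth.Agent.Sga3.H772.LocStep
import Groth.Agent.Sga3.H772.FlatOver
import Groth.Agent.Sga3C.FlatPt

/-!
# The affine local step

`A → B` of finite presentation with `B → B ⊗[A] B` flat.  Around every prime `q` of `B` the map
`D → B` is flat for some finitely generated subalgebra `D` of `B` all of whose elements satisfy
`d ⊗ 1 = 1 ⊗ d`.
-/

set_option autoImplicit false
universe u

open CategoryTheory AlgebraicGeometry TensorProduct

namespace Groth.Agent.Sga3.H772.AffLoc

open Groth.Agent.Sga3.H772.Equalizer Groth.Agent.Sga3.H772.Split Groth.Agent.Sga3.H772.FlatOver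
  Groth.Agent.Sga3.H772.LocStep Groth.Agent.Sga3C.FlatPt

theorem flat_tensor_self (A B S P : Type u) [CommRing A] [CommRing B] [CommRing S] [CommRing P]
    [Algebra A B] [Algebra A S] [Algebra S P] [Algebra (S ⊗[A] B) P]
    [IsScalarTower S (S ⊗[A] B) P] [Module.Flat B (B ⊗[A] B)] :
    Module.Flat P (P ⊗[S] (S ⊗[A] B)) := by
  let _ : Algebra A P := ((algebraMap S P).comp (algebraMap A S)).toAlgebra
  have : IsScalarTower A S P := IsScalarTower.of_algebraMap_eq fun x => rfl
  let _ : Algebra B P := ((algebraMap (S ⊗[A] B) P).comp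
      (Algebra.TensorProduct.includeRight : B →ₐ[A] S ⊗[A] B).toRingHom).toAlgebra
  have : IsScalarTower A B P := IsScalarTower.of_algebraMap_eq fun a => by
    change algebraMap S P (algebraMap A S a) = algebraMap (S ⊗[A] B) P
      ((Algebra.TensorProduct.includeRight : B →ₐ[A] S ⊗[A] B) (algebraMap A B a))
    rw [AlgHom.commutes, IsScalarTower.algebraMap_apply S (S ⊗[A] B) P]
    rfl
  have h1 : Module.Flat P (P ⊗[A] B) := flat_self_baseChange A B P
  exact Module.Flat.of_linearEquiv (TensorProduct.AlgebraTensorModule.cancelBaseChange A S P P B)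

theorem isFlatAt_of_ring {R B T : Type u} [CommRing R] [CommRing B] [CommRing T] (f : R →+* B)
    (g : B →+* T) (hg : g.Flat) (hgf : (g.comp f).Flat) (z : PrimeSpectrum T) :
    IsFlatAt (Spec.map (CommRingCat.ofHom f)) (PrimeSpectrum.comap g z) := by
  have h1 : Flat (Spec.map (CommRingCat.ofHom g)) := by
    rw [Flat.SpecMap_iff]
    exact hg
  have h2 : Flat (Spec.map (CommRingCat.ofHom g) ≫ Spec.map (CommRingCat.ofHom f)) := by
    rw [← Spec.map_comp, Flat.SpecMap_iff]
    exact hgf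
  exact IsFlatAt.of_comp (q := Spec.map (CommRingCat.ofHom g)) (t := z)
    (isFlatAt_of_flat (Spec.map (CommRingCat.ofHom g)) z)
    (isFlatAt_of_flat (Spec.map (CommRingCat.ofHom g) ≫ Spec.map (CommRingCat.ofHom f)) z)

theorem exists_comap_mk {T : Type u} [CommRing T] (J Q : Ideal T) (hQ : Q.IsPrime) (hJQ : J ≤ Q) :
    ∃ z : PrimeSpectrum (T ⧸ J), PrimeSpectrum.comap (Ideal.Quotient.mk J) z = ⟨Q, hQ⟩ := by
  have h3 : (⟨Q, hQ⟩ : PrimeSpectrum T) ∈
      Set.range (PrimeSpectrum.comap (Ideal.Quotient.mk J)) := by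
    rw [range_comap_of_surjective _ _ Ideal.Quotient.mk_surjective, Ideal.mk_ker]
    exact hJQ
  exact h3

theorem exists_isFlatAt_aux {A B S : Type u} [CommRing A] [CommRing B] [CommRing S] [Algebra A B]
    [Algebra A S] [Module.Flat A S] (I : Ideal S) (hIfg : I.FG)
    (h1 : Module.Flat (S ⊗[A] B) ((S ⊗[A] B) ⧸ I.map (algebraMap S (S ⊗[A] B))))
    (h2 : Module.FaithfullyFlat (S ⧸ I) ((S ⊗[A] B) ⧸ I.map (algebraMap S (S ⊗[A] B))))
    (Q : Ideal (S ⊗[A] B)) (hQ : Q.IsPrime) (hJQ : I.map (algebraMap S (S ⊗[A] B)) ≤ Q)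
    (q : PrimeSpectrum B)
    (hQq : Q.comap (Algebra.TensorProduct.includeRight : B →ₐ[A] S ⊗[A] B).toRingHom = q.asIdeal) :
    ∃ D : Subalgebra A B, D.FG ∧ D ≤ selfEq A B ∧
      IsFlatAt (Spec.map (CommRingCat.ofHom D.val.toRingHom)) q := by
  obtain ⟨D, hDfg, hD, hDfl⟩ := exists_fg_flat (A := A) (B := B) I hIfg
  refine ⟨D, hDfg, hD, ?_⟩
  obtain ⟨z, hz⟩ := exists_comap_mk (I.map (algebraMap S (S ⊗[A] B))) Q hQ hJQ
  have hmk : (Ideal.Quotient.mk (I.map (algebraMap S (S ⊗[A] B)))).Flat :=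
    RingHom.flat_algebraMap_iff.mpr h1
  have h3 := isFlatAt_of_ring _ _ (RingHom.Flat.comp (includeRight_flat A S B) hmk) hDfl z
  have h4 : PrimeSpectrum.comap ((Ideal.Quotient.mk (I.map (algebraMap S (S ⊗[A] B)))).comp
      (Algebra.TensorProduct.includeRight : B →ₐ[A] S ⊗[A] B).toRingHom) z = q := by
    rw [PrimeSpectrum.comap_comp_apply, hz]
    exact PrimeSpectrum.ext hQq
  rw [h4] at h3
  exact h3

theorem exists_isFlatAt {A B : Type u} [CommRing A] [CommRing B] [Algebra A B]
    [Algebra.FinitePresentation A B] [Module.Flat B (B ⊗[A] B)] (q : PrimeSpectrum B) :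
    ∃ D : Subalgebra A B, D.FG ∧ D ≤ selfEq A B ∧
      IsFlatAt (Spec.map (CommRingCat.ofHom D.val.toRingHom)) q := by
  obtain ⟨S, _, _, I, Q, hQ, hSfl, hIfg, hQq, hIN, hSloc, hSN, hflat⟩ :=
    exists_henselian_data (A := A) q.asIdeal
  have hIN' : ∀ a ∈ I, algebraMap S (Localization.AtPrime Q) a = 0 := fun a ha => by
    have h1 := Ideal.mem_map_of_mem (algebraMap S (Localization.AtPrime Q)) ha
    rw [hIN] at h1
    exact h1
  let _ : Algebra (S ⧸ I) (Localization.AtPrime Q) := (Ideal.Quotient.lift I (algebraMap S (Localization.AtPrime Q)) hIN').toAlgebra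
  have : IsScalarTower S (S ⧸ I) (Localization.AtPrime Q) := IsScalarTower.of_algebraMap_eq fun x => rfl
  have hItop : I ≠ ⊤ := by
    rintro rfl
    have h1 := hIN' 1 trivial
    rw [map_one] at h1
    exact one_ne_zero h1
  have : Nontrivial (S ⧸ I) := Ideal.Quotient.nontrivial_iff.mpr hItop
  have : IsLocalRing (S ⧸ I) := IsLocalRing.of_surjective' (Ideal.Quotient.mk I)
    Ideal.Quotient.mk_surjective
  have hloc : IsLocalHom (algebraMap (S ⧸ I) (Localization.AtPrime Q)) := by
    constructor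
    intro a ha
    obtain ⟨a, rfl⟩ := Ideal.Quotient.mk_surjective a
    have h1 : IsUnit (algebraMap S (Localization.AtPrime Q) a) := ha
    exact ((isUnit_map_iff (algebraMap S (Localization.AtPrime Q)) a).mp h1).map (Ideal.Quotient.mk I)
  have hflat' : Module.Flat (S ⧸ I) (Localization.AtPrime Q) := by
    have h1 : TensorProduct.CompatibleSMul S (S ⧸ I) (S ⧸ I) (Localization.AtPrime Q) :=
      TensorProduct.CompatibleSMul.of_algebraMap_surjective _ _ Ideal.Quotient.mk_surjective
    exact Module.Flat.of_linearEquiv (TensorProduct.lidOfCompatibleSMul S (S ⧸ I) (Localization.AtPrime Q)).symm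
  have hff : Module.FaithfullyFlat (S ⧸ I) (Localization.AtPrime Q) := Module.FaithfullyFlat.of_flat_of_isLocalHom
  have hT : Module.Flat (S ⊗[A] B) ((S ⊗[A] B) ⊗[S] (S ⊗[A] B)) := flat_tensor_self A B S (S ⊗[A] B)
  have hN : Module.Flat (Localization.AtPrime Q) ((Localization.AtPrime Q) ⊗[S] (S ⊗[A] B)) :=
    flat_tensor_self A B S (Localization.AtPrime Q)
  have hTN : Module.Flat (S ⊗[A] B) (Localization.AtPrime Q) :=
    IsLocalization.flat (Localization.AtPrime Q) Q.primeCompl
  have h1 := flat_quotient (S := S) (T := S ⊗[A] B) (Localization.AtPrime Q) I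
  have h2 := faithfullyFlat_quotient (S := S) (T := S ⊗[A] B) (Localization.AtPrime Q) I
  have hJQ : I.map (algebraMap S (S ⊗[A] B)) ≤ Q := by
    rw [Ideal.map_le_iff_le_comap]
    intro a ha
    rw [Ideal.mem_comap, ← IsLocalization.AtPrime.to_map_mem_maximal_iff (Localization.AtPrime Q) Q,
      ← IsScalarTower.algebraMap_apply, hIN' a ha]
    exact zero_mem _
  exact exists_isFlatAt_aux I hIfg h1 h2 Q hQ hJQ q hQq

end Groth.Agent.Sga3.H772.AffLoc
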