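import Groth.Agent.Sga3.H772.Split

/-!
# The equalizer subalgebra and finitely generated subalgebras of it

For an `A`-algebra `B`, `selfEq A B` is the subalgebra of the `b` with `b ⊗ 1 = 1 ⊗ b`.  If `S` is a
flat `A`-algebra and `I` a finitely generated ideal of `S` such that `S ⊗ B / I` is flat over
`S ⊗ B` and faithfully flat over `S / I`, then some finitely generated subalgebra `D` of `selfEq A B`
is such that `S ⊗ B / I` is flat over `D`.
-/

set_option autoImplicit false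
universe u

open TensorProduct

namespace Groth.Agent.Sga3.H772.Equalizer

/-- the subalgebra of elements with `b ⊗ 1 = 1 ⊗ b` -/
noncomputable def selfEq (A B : Type u) [CommRing A] [CommRing B] [Algebra A B] : Subalgebra A B :=
  AlgHom.equalizer (Algebra.TensorProduct.includeLeft : B →ₐ[A] B ⊗[A] B)
    Algebra.TensorProduct.includeRight

variable {A B : Type u} [CommRing A] [CommRing B] [Algebra A B]

theorem mem_selfEq (b : B) : b ∈ selfEq A B ↔ b ⊗ₜ[A] (1 : B) = (1 : B) ⊗ₜ[A] b := Iff.rfl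

/-- the map `S ⊗ D → S ⊗ B` -/
noncomputable def incl (S : Type u) [CommRing S] [Algebra A S] (D : Subalgebra A B) :
    S ⊗[A] D →ₐ[S] S ⊗[A] B := Algebra.TensorProduct.map (AlgHom.id S S) D.val

theorem incl_tmul (S : Type u) [CommRing S] [Algebra A S] (D : Subalgebra A B) (s : S) (d : D) :
    incl S D (s ⊗ₜ d) = s ⊗ₜ (d : B) := rfl

theorem incl_injective (S : Type u) [CommRing S] [Algebra A S] [Module.Flat A S]
    (D : Subalgebra A B) : Function.Injective (incl S D) :=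
  Module.Flat.lTensor_preserves_injective_linearMap (M := S) D.val.toLinearMap
    Subtype.val_injective

theorem range_incl_mono (S : Type u) [CommRing S] [Algebra A S] {D D' : Subalgebra A B}
    (h : D ≤ D') {x : S ⊗[A] B} (hx : x ∈ Set.range (incl S D)) : x ∈ Set.range (incl S D') := by
  obtain ⟨z, rfl⟩ := hx
  induction z using TensorProduct.induction_on with
  | zero => exact ⟨0, by simp⟩
  | tmul s d => exact ⟨s ⊗ₜ ⟨d, h d.2⟩, rfl⟩
  | add x y hx hy =>
    obtain ⟨a, ha⟩ := hx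
    obtain ⟨b, hb⟩ := hy
    exact ⟨a + b, by rw [map_add, map_add, ha, hb]⟩

theorem exists_fg_of_mem_range (S : Type u) [CommRing S] [Algebra A S] (C : Subalgebra A B)
    (x : S ⊗[A] B) (hx : x ∈ Set.range (incl S C)) :
    ∃ D : Subalgebra A B, D.FG ∧ D ≤ C ∧ x ∈ Set.range (incl S D) := by
  obtain ⟨z, rfl⟩ := hx
  induction z using TensorProduct.induction_on with
  | zero => exact ⟨⊥, Subalgebra.fg_bot, bot_le, 0, by simp⟩
  | tmul s d =>
    refine ⟨Algebra.adjoin A {(d : B)}, ⟨{(d : B)}, by simp⟩,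
      Algebra.adjoin_le (by simp), s ⊗ₜ ⟨d, Algebra.subset_adjoin (by simp)⟩, rfl⟩
  | add x y hx hy =>
    obtain ⟨D₁, h1, h2, h3⟩ := hx
    obtain ⟨D₂, h1', h2', h3'⟩ := hy
    refine ⟨D₁ ⊔ D₂, h1.sup h1', sup_le h2 h2', ?_⟩
    obtain ⟨a, ha⟩ := range_incl_mono S (le_sup_left : D₁ ≤ D₁ ⊔ D₂) h3
    obtain ⟨b, hb⟩ := range_incl_mono S (le_sup_right : D₂ ≤ D₁ ⊔ D₂) h3'
    exact ⟨a + b, by rw [map_add, map_add, ha, hb]⟩

/-- elements of `S ⊗ B` equalizing the two maps to `(S ⊗ B) ⊗[S] (S ⊗ B)` come from `S ⊗ selfEq` -/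
theorem mem_range_incl_selfEq (S : Type u) [CommRing S] [Algebra A S] [Module.Flat A S]
    (x : S ⊗[A] B) (hx : x ⊗ₜ[S] (1 : S ⊗[A] B) = (1 : S ⊗[A] B) ⊗ₜ[S] x) :
    x ∈ Set.range (incl S (selfEq A B)) := by
  have h1 : Function.Exact (Subalgebra.toSubmodule (selfEq A B)).subtype
      (Algebra.TensorProduct.includeLeftSubRight A B) := by
    intro b
    rw [Algebra.TensorProduct.includeLeftSubRight_apply, sub_eq_zero]
    constructor
    · intro h
      exact ⟨⟨b, h⟩, rfl⟩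
    · rintro ⟨c, rfl⟩
      exact c.2
  have h2 := Module.Flat.lTensor_exact S h1
  have h3 : ((Algebra.TensorProduct.includeLeftSubRight A B).lTensor S) x = 0 := by
    apply (TensorProduct.AlgebraTensorModule.distribBaseChange A S B B).injective
    rw [map_zero, Algebra.TensorProduct.distribBaseChange_includeLeftSubRight_apply,
      Algebra.TensorProduct.includeLeftSubRight_apply, sub_eq_zero]
    exact hx
  obtain ⟨z, hz⟩ := (h2 x).mp h3
  exact ⟨z, hz⟩

/-- elements of `S ⊗ selfEq` equalize the two maps to `(S ⊗ B) ⊗[S] (S ⊗ B)` -/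
theorem tmul_one_eq_of_mem_range (S : Type u) [CommRing S] [Algebra A S] (D : Subalgebra A B)
    (hD : D ≤ selfEq A B) (x : S ⊗[A] D) :
    (incl S D x) ⊗ₜ[S] (1 : S ⊗[A] B) = (1 : S ⊗[A] B) ⊗ₜ[S] (incl S D x) := by
  induction x using TensorProduct.induction_on with
  | zero => simp
  | add x y hx hy => rw [map_add, TensorProduct.add_tmul, TensorProduct.tmul_add, hx, hy]
  | tmul s d =>
    have h1 : (d : B) ⊗ₜ[A] (1 : B) = (1 : B) ⊗ₜ[A] (d : B) := hD d.2
    have h2 := congrArg (fun z => TensorProduct.AlgebraTensorModule.distribBaseChange A S B B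
      (s ⊗ₜ[A] z)) h1
    have h3 : (s ⊗ₜ[A] (d : B)) ⊗ₜ[S] ((1 : S) ⊗ₜ[A] (1 : B)) =
        (s ⊗ₜ[A] (1 : B)) ⊗ₜ[S] ((1 : S) ⊗ₜ[A] (d : B)) := by
      simpa using h2
    have h4 : s ⊗ₜ[A] (1 : B) = s • ((1 : S) ⊗ₜ[A] (1 : B)) := by
      rw [TensorProduct.smul_tmul', smul_eq_mul, mul_one]
    have h5 : s ⊗ₜ[A] (d : B) = s • ((1 : S) ⊗ₜ[A] (d : B)) := by
      rw [TensorProduct.smul_tmul', smul_eq_mul, mul_one]
    rw [incl_tmul, Algebra.TensorProduct.one_def, h3, h4, TensorProduct.smul_tmul, ← h5]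

end Groth.Agent.Sga3.H772.Equalizer
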