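import Groth.Agent.Flat2A.LocCorep
import Groth.Agent.Flat2A.LocCorepFG
import Groth.Agent.CalgB.HullFlat
import Groth.Agent.Sga3C.FlatOfComp

/-!
# Self-flat algebras are flat over a quotient of the henselian local rings of the base

`A → B` of finite presentation with `B → B ⊗[A] B` flat.  For every prime `q` of `B` there is a local
flat `A`-algebra `S` (a henselization), a prime `Q` of `S ⊗[A] B` above `q` and the maximal ideal
of `S`, and a finitely generated ideal `I` of `S` such that `I` is killed in `(S ⊗[A] B)_Q` and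
`S / I → (S ⊗[A] B)_Q` is flat.
-/

set_option autoImplicit false
universe u

open TensorProduct IsLocalRing

namespace Groth.Agent.Sga3.H772.LocStep

/-- self-flatness is inherited by all `B`-algebras -/
theorem flat_self_baseChange (A B N : Type u) [CommRing A] [CommRing B] [Algebra A B] [CommRing N]
    [Algebra A N] [Algebra B N] [IsScalarTower A B N] [Module.Flat B (B ⊗[A] B)] :
    Module.Flat N (N ⊗[A] B) :=
  Module.Flat.of_linearEquiv
    (TensorProduct.AlgebraTensorModule.cancelBaseChange A B N N B).symm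

/-- the corepresenting ideal of a local algebra dies in any local algebra over which the base change
is flat -/
theorem map_eq_bot_of_flat {S M N : Type u} [CommRing S] [CommRing M] [IsLocalRing M]
    [Algebra S M] (I : Ideal S) (h : Groth.Agent.Flat2A.LocFun.Corep S M M I)
    [CommRing N] [IsLocalRing N] [Algebra S N] [IsLocalHom (algebraMap S N)]
    (hfl : Module.Flat N (N ⊗[S] M)) : I.map (algebraMap S N) = ⊥ := by
  let _ : Algebra M (N ⊗[S] M) := Algebra.TensorProduct.rightAlgebra
  have hpo : Algebra.IsPushout S M N (N ⊗[S] M) := inferInstance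
  have h1 : Groth.Agent.Flat2A.LocFun.Corep S M M I := h
  refine (h N (N ⊗[S] M) (N ⊗[S] M) (Algebra.linearMap M (N ⊗[S] M))
    (IsBaseChange.linearMap M (N ⊗[S] M))).mp ?_
  exact Groth.Agent.Flat2A.LocFun.flatAbove_of_flat

/-- flatness passes from `N ⊗[S] T` to `N ⊗[S] N` for a flat `T`-algebra `N` -/
theorem flat_tensor_of_flat (S T N : Type u) [CommRing S] [CommRing T] [CommRing N] [Algebra S T]
    [Algebra T N] [Algebra S N] [IsScalarTower S T N] [Module.Flat T N]
    [h : Module.Flat N (N ⊗[S] T)] : Module.Flat N (N ⊗[S] N) := by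
  have h1 : (IsScalarTower.toAlgHom S T N).toRingHom.Flat :=
    RingHom.flat_algebraMap_iff.mpr inferInstance
  have h2 : (Algebra.TensorProduct.lTensor (S := N) N (IsScalarTower.toAlgHom S T N)).toRingHom.Flat :=
    RingHom.Flat.lTensor N h1
  have h3 : (algebraMap N (N ⊗[S] T)).Flat := RingHom.flat_algebraMap_iff.mpr h
  have h4 := RingHom.Flat.comp h3 h2
  rw [← RingHom.flat_algebraMap_iff]
  convert! h4 using 1
  exact (Algebra.TensorProduct.lTensor (S := N) N (IsScalarTower.toAlgHom S T N)).comp_algebraMap.symm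

/-- the data produced at a prime `q` -/
theorem exists_henselian_data {A B : Type u} [CommRing A] [CommRing B] [Algebra A B]
    [Algebra.FinitePresentation A B] [Module.Flat B (B ⊗[A] B)] (q : Ideal B) [q.IsPrime] :
    ∃ (S : Type u) (_ : CommRing S) (_ : Algebra A S) (I : Ideal S) (Q : Ideal (S ⊗[A] B))
      (_ : Q.IsPrime), Module.Flat A S ∧ I.FG ∧
        Q.comap (Algebra.TensorProduct.includeRight : B →ₐ[A] S ⊗[A] B).toRingHom = q ∧
        I.map (algebraMap S (Localization.AtPrime Q)) = ⊥ ∧
        IsLocalRing S ∧ IsLocalHom (algebraMap S (Localization.AtPrime Q)) ∧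
        Module.Flat (S ⧸ I) ((S ⧸ I) ⊗[S] (Localization.AtPrime Q)) := by
  let K := q.ResidueField
  obtain ⟨S, _, _, π, hπ⟩ := Groth.Agent.Hensel.Hull.exists_isHull A K
  have hloc : IsLocalRing S := hπ.isLocalRing
  have hhens : HenselianLocalRing S := hπ.henselianLocalRing
  have hflatS : Module.Flat A S := (Groth.Agent.CalgB.HullFlat.indEt_of_lazard hπ.lazard).1
  let ρ : S ⊗[A] B →ₐ[A] K :=
    Algebra.TensorProduct.lift π (IsScalarTower.toAlgHom A B K) (fun _ _ => Commute.all _ _)
  let Q : Ideal (S ⊗[A] B) := RingHom.ker ρ.toRingHom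
  have hQ : Q.IsPrime := RingHom.ker_isPrime _
  have hmemQ : ∀ x, x ∈ Q ↔ ρ x = 0 := fun x => Iff.rfl
  let N := Localization.AtPrime Q
  have hSN : IsLocalHom (algebraMap S N) := by
    constructor
    intro s hs
    rw [IsScalarTower.algebraMap_apply S (S ⊗[A] B) N,
      IsLocalization.AtPrime.isUnit_to_map_iff N Q] at hs
    apply hπ.isUnit_of_ne_zero
    intro h0
    apply hs
    change ρ (s ⊗ₜ 1) = 0
    rw [Algebra.TensorProduct.lift_tmul, map_one, mul_one, h0]
  have hess : Algebra.EssFiniteType S N := by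
    have : Algebra.EssFiniteType (S ⊗[A] B) N := Algebra.EssFiniteType.of_isLocalization N Q.primeCompl
    exact Algebra.EssFiniteType.comp S (S ⊗[A] B) N
  have hessfp : FlatCA.EssFinitePresentation S N :=
    ⟨S ⊗[A] B, inferInstance, inferInstance, inferInstance, inferInstance, Q.primeCompl,
      inferInstance, inferInstance⟩
  obtain ⟨I, hI⟩ := Groth.Agent.Flat2A.LocFun.exists_corep (A := S) N N
  refine ⟨S, inferInstance, inferInstance, I, Q, hQ, hflatS,
    Groth.Agent.Flat2A.LocFun.corep_fg hessfp N I hI, ?_, ?_, hloc, hSN,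
    Groth.Agent.Flat2A.LocFun.flat_quotient_of_corep N I hI⟩
  · ext b
    change ρ (1 ⊗ₜ b) = 0 ↔ _
    rw [Algebra.TensorProduct.lift_tmul, map_one, one_mul]
    exact Ideal.algebraMap_residueField_eq_zero
  · apply map_eq_bot_of_flat I hI
    let _ : Algebra B N := ((algebraMap (S ⊗[A] B) N).comp
      (Algebra.TensorProduct.includeRight : B →ₐ[A] S ⊗[A] B).toRingHom).toAlgebra
    have : IsScalarTower A B N := IsScalarTower.of_algebraMap_eq fun a => by
      rw [IsScalarTower.algebraMap_apply A (S ⊗[A] B) N]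
      change _ = algebraMap (S ⊗[A] B) N
        ((Algebra.TensorProduct.includeRight : B →ₐ[A] S ⊗[A] B) (algebraMap A B a))
      rw [AlgHom.commutes]
    have h1 : Module.Flat N (N ⊗[A] B) := flat_self_baseChange A B N
    have h2 : Module.Flat N (N ⊗[S] (S ⊗[A] B)) :=
      Module.Flat.of_linearEquiv (TensorProduct.AlgebraTensorModule.cancelBaseChange A S N N B)
    exact flat_tensor_of_flat S (S ⊗[A] B) N

end Groth.Agent.Sga3.H772.LocStep
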