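import Mathlib.AlgebraicGeometry.Sites.Representability
import Mathlib.CategoryTheory.Sites.Subsheaf

/-!
# Gluing monomorphisms of schemes

Let `P` be a property of morphisms `T ⟶ Y` to a fixed scheme `Y` which is stable under
precomposition and Zariski local on `T`, and let `m i : X i ⟶ Y` be monomorphisms with `P (m i)` such
that for every `t : T ⟶ Y` with `P t` the projections `T ×_Y X i ⟶ T` are jointly surjective open
immersions.  Then `P` is the property of factoring through a monomorphism `X' ⟶ Y`.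
-/

set_option autoImplicit false
set_option linter.unusedVariables false
universe u

open CategoryTheory Limits AlgebraicGeometry Opposite

namespace Groth.Agent.Sga3.H772.MonoGlue

variable {Y : Scheme.{u}} (P : ∀ {T : Scheme.{u}}, (T ⟶ Y) → Prop)
  (hP1 : ∀ {T T' : Scheme.{u}} (h : T' ⟶ T) (t : T ⟶ Y), P t → P (h ≫ t))

/-- the subfunctor of the `t : T ⟶ Y` with the property -/
def sub : Subfunctor (yoneda.obj Y) where
  obj T := {t : T.unop ⟶ Y | P t}
  map {T T'} h := fun t ht => hP1 h.unop t ht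

variable (hP2 : ∀ {T : Scheme.{u}} (t : T ⟶ Y) (𝒰 : Scheme.OpenCover.{u} T), (∀ i, P (𝒰.f i ≫ t)) → P t)

include hP2 in
theorem isSheaf_sub : Presieve.IsSheaf Scheme.zariskiTopology (sub P hP1).toFunctor := by
  rw [Subfunctor.isSheaf_iff]
  · intro T t ht
    obtain ⟨𝒰, h𝒰⟩ := Scheme.exists_cover_of_mem_grothendieckTopology ht
    exact hP2 t 𝒰 fun i => h𝒰 _ _ ⟨i⟩
  · exact GrothendieckTopology.Subcanonical.isSheaf_of_isRepresentable _

variable {ι : Type u} {X : ι → Scheme.{u}} (m : ∀ i, X i ⟶ Y) (hX : ∀ i, P (m i))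

/-- the morphism to the subfunctor attached to an element -/
def ofEl {T : Scheme.{u}} (t : T ⟶ Y) (ht : P t) : yoneda.obj T ⟶ (sub P hP1).toFunctor :=
  yonedaEquiv.symm (⟨t, ht⟩ : {t : T ⟶ Y | P t})

theorem ofEl_app {T T' : Scheme.{u}} (t : T ⟶ Y) (ht : P t) (h : T' ⟶ T) :
    (ofEl P hP1 t ht).app (op T') h = (⟨h ≫ t, hP1 h t ht⟩ : {t : T' ⟶ Y | P t}) := rfl

theorem exists_ofEl {T : Scheme.{u}} (g : yoneda.obj T ⟶ (sub P hP1).toFunctor) :
    ∃ (t : T ⟶ Y) (ht : P t), g = ofEl P hP1 t ht := by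
  exact ⟨(yonedaEquiv g : {t : T ⟶ Y | P t}).1, (yonedaEquiv g : {t : T ⟶ Y | P t}).2,
    (yonedaEquiv.symm_apply_apply g).symm⟩

variable (hopen : ∀ {T : Scheme.{u}} (t : T ⟶ Y), P t → ∀ i, IsOpenImmersion (pullback.fst t (m i)))

include hopen in
theorem isOpenImmersion_ofEl (i : ι) : IsOpenImmersion.presheaf (ofEl P hP1 (m i) (hX i)) := by
  refine MorphismProperty.relative.of_exists fun T g => ?_
  obtain ⟨t, ht, rfl⟩ := exists_ofEl P hP1 g
  refine ⟨pullback t (m i), yoneda.map (pullback.snd t (m i)), pullback.fst t (m i), ?_,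
    hopen t ht i⟩
  refine IsPullback.of_forall_isPullback_app fun R' => ?_
  obtain ⟨R', rfl⟩ : ∃ R, R' = op R := ⟨R'.unop, rfl⟩
  rw [Types.isPullback_iff]
  refine ⟨?_, ?_, ?_⟩
  · refine ConcreteCategory.hom_ext _ _ fun (k : R' ⟶ pullback t (m i)) => ?_
    change (ofEl P hP1 (m i) (hX i)).app (op R') (k ≫ pullback.snd t (m i)) =
      (ofEl P hP1 t ht).app (op R') (k ≫ pullback.fst t (m i))
    rw [ofEl_app, ofEl_app]
    apply Subtype.ext
    dsimp only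
    rw [Category.assoc, Category.assoc, pullback.condition]
  · rintro (k₁ : R' ⟶ pullback t (m i)) (k₂ : R' ⟶ pullback t (m i)) ⟨h, h'⟩
    exact pullback.hom_ext h' h
  · intro (x₂ : R' ⟶ X i) (x₃ : R' ⟶ T) h
    rw [ofEl_app, ofEl_app] at h
    have h1 : x₂ ≫ m i = x₃ ≫ t := congrArg Subtype.val h
    exact ⟨pullback.lift x₃ x₂ h1.symm, pullback.lift_snd x₃ x₂ h1.symm,
      pullback.lift_fst x₃ x₂ h1.symm⟩

variable (hcov : ∀ {T : Scheme.{u}} (t : T ⟶ Y), P t → ∀ x : T,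
    ∃ i, x ∈ Set.range (pullback.fst t (m i)))

include hopen hcov in
theorem exists_local_lift {T : Scheme.{u}} (t : T ⟶ Y) (ht : P t) :
    ∃ 𝒰 : Scheme.OpenCover.{u} T, ∀ j, ∃ (i : ι) (c : 𝒰.X j ⟶ X i), c ≫ m i = 𝒰.f j ≫ t := by
  have hop : ∀ i, IsOpenImmersion (pullback.fst t (m i)) := hopen t ht
  let 𝒰 : T.OpenCover := Scheme.openCoverOfIsOpenCover T
    (fun i => (pullback.fst t (m i)).opensRange)
    (by
      rw [TopologicalSpace.IsOpenCover, eq_top_iff]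
      intro τ _
      obtain ⟨i, hi⟩ := hcov t ht τ
      exact TopologicalSpace.Opens.mem_iSup.2 ⟨i, hi⟩)
  refine ⟨𝒰, fun (i : ι) => ?_⟩
  let c : 𝒰.X i ⟶ pullback t (m i) := IsOpenImmersion.lift (pullback.fst t (m i)) (𝒰.f i) (by
    change Set.range (pullback.fst t (m i)).opensRange.ι ⊆ _
    rw [Scheme.Opens.range_ι]
    exact subset_rfl)
  have hc : c ≫ pullback.fst t (m i) = 𝒰.f i := IsOpenImmersion.lift_fac _ _ _
  refine ⟨i, c ≫ pullback.snd t (m i), ?_⟩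
  rw [← hc, Category.assoc, Category.assoc, pullback.condition]

include hopen hcov in
theorem isLocallySurjective_desc :
    Presheaf.IsLocallySurjective Scheme.zariskiTopology
      (Sigma.desc (fun i => ofEl P hP1 (m i) (hX i))) := by
  refine ⟨fun {T} z => ?_⟩
  obtain ⟨t, ht, rfl⟩ : ∃ (t : T ⟶ Y) (ht : P t), z = (⟨t, ht⟩ : {t : T ⟶ Y | P t}) :=
    ⟨z.1, z.2, rfl⟩
  obtain ⟨𝒰, h𝒰⟩ := exists_local_lift P m hopen hcov t ht
  refine GrothendieckTopology.superset_covering _ ?_ 𝒰.mem_grothendieckTopology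
  rintro R' _ ⟨_, b, _, ⟨j⟩, rfl⟩
  obtain ⟨i, c, hc⟩ := h𝒰 j
  refine ⟨(Sigma.ι (fun i => yoneda.obj (X i)) i).app (op R') (b ≫ c), ?_⟩
  have e1 : (Sigma.desc (fun i => ofEl P hP1 (m i) (hX i))).app (op R')
      ((Sigma.ι (fun i => yoneda.obj (X i)) i).app (op R') (b ≫ c)) =
      (ofEl P hP1 (m i) (hX i)).app (op R') (b ≫ c) := by
    rw [← NatTrans.comp_app_apply, Sigma.ι_desc]
  refine e1.trans ?_
  rw [ofEl_app]
  apply Subtype.ext
  change (b ≫ c) ≫ m i = (b ≫ 𝒰.f j) ≫ t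
  rw [Category.assoc, hc, Category.assoc]

include hP1 hP2 hopen hcov hX in
/-- gluing monomorphisms -/
theorem exists_mono : ∃ (X' : Scheme.{u}) (m' : X' ⟶ Y), Mono m' ∧ P m' ∧
    ∀ {T : Scheme.{u}} (t : T ⟶ Y), P t → ∃ s : T ⟶ X', s ≫ m' = t := by
  let G : Sheaf Scheme.zariskiTopology.{u} (Type u) :=
    ⟨(sub P hP1).toFunctor, (isSheaf_iff_isSheaf_of_type _ _).2 (isSheaf_sub P hP1 hP2)⟩
  let f : (i : ι) → yoneda.obj (X i) ⟶ G.1 := fun i => ofEl P hP1 (m i) (hX i)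
  have hf : ∀ i, IsOpenImmersion.presheaf (f i) := isOpenImmersion_ofEl P hP1 m hX hopen
  have : Presheaf.IsLocallySurjective Scheme.zariskiTopology (Sigma.desc f) :=
    isLocallySurjective_desc P hP1 m hX hopen hcov
  let ρ : (sub P hP1).toFunctor.RepresentableBy _ :=
    Scheme.LocalRepresentability.representableBy (F := G) (f := f) hf
  obtain ⟨t, ht, hz⟩ : ∃ (t : _ ⟶ Y) (ht : P t),
    ρ.homEquiv (𝟙 _) = (⟨t, ht⟩ : {t : _ ⟶ Y | P t}) :=
      ⟨(ρ.homEquiv (𝟙 _) : {t : _ ⟶ Y | P t}).1, (ρ.homEquiv (𝟙 _) : {t : _ ⟶ Y | P t}).2, rfl⟩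
  have hρ : ∀ {T : Scheme.{u}} (a : T ⟶ _), ρ.homEquiv a =
      (⟨a ≫ t, hP1 a t ht⟩ : {t : T ⟶ Y | P t}) := by
    intro T a
    rw [ρ.homEquiv_eq a, hz]
    rfl
  refine ⟨_, t, ⟨fun {T} a b hab => ?_⟩, ht, fun {T} s hs => ?_⟩
  · apply ρ.homEquiv.injective
    rw [hρ, hρ]
    exact Subtype.ext hab
  · obtain ⟨a, ha⟩ := ρ.homEquiv.surjective (⟨s, hs⟩ : {t : T ⟶ Y | P t})
    rw [hρ] at ha
    exact ⟨a, congrArg Subtype.val ha⟩

end Groth.Agent.Sga3.H772.MonoGlue
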