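import Groth.Agent.Sga3C.FlatOfComp
import Mathlib.RingTheory.RingHom.FaithfullyFlat
import Mathlib.RingTheory.TensorProduct.IncludeLeftSubRight
import Mathlib.RingTheory.TensorProduct.Quotient
import Mathlib.RingTheory.Ideal.Pure

/-!
# Splitting off the part of a self-flat algebra which lives over a closed subscheme

`S → T` with `T → T ⊗[S] T` flat, `N` a flat `T`-algebra which is killed by the finitely generated
ideal `I` of `S` and is faithfully flat over `S / I`.  Then `T / IT` is flat over `T` and faithfully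
flat over `S / I`.
-/

set_option autoImplicit false
universe u

open TensorProduct

namespace Groth.Agent.Sga3.H772.Split

/-- flatness over `P` passes from `P ⊗[S] T` to `P ⊗[S] N` for a flat `T`-algebra `N` -/
theorem flat_tensor_of_flat (S P T N : Type u) [CommRing S] [CommRing P] [CommRing T] [CommRing N]
    [Algebra S P] [Algebra S T] [Algebra T N] [Algebra S N] [IsScalarTower S T N] [Module.Flat T N]
    [h : Module.Flat P (P ⊗[S] T)] : Module.Flat P (P ⊗[S] N) := by
  have h1 : (IsScalarTower.toAlgHom S T N).toRingHom.Flat :=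
    RingHom.flat_algebraMap_iff.mpr inferInstance
  have h2 : (Algebra.TensorProduct.lTensor (S := P) P (IsScalarTower.toAlgHom S T N)).toRingHom.Flat :=
    RingHom.Flat.lTensor P h1
  have h3 : (algebraMap P (P ⊗[S] T)).Flat := RingHom.flat_algebraMap_iff.mpr h
  have h4 := RingHom.Flat.comp h3 h2
  rw [← RingHom.flat_algebraMap_iff]
  convert! h4 using 1
  exact (Algebra.TensorProduct.lTensor (S := P) P (IsScalarTower.toAlgHom S T N)).comp_algebraMap.symm

/-- the right inclusion into a tensor product is flat as soon as the left one into the swapped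
tensor product is -/
theorem includeRight_flat (S P T : Type u) [CommRing S] [CommRing P] [CommRing T]
    [Algebra S P] [Algebra S T] [h : Module.Flat T (T ⊗[S] P)] :
    (Algebra.TensorProduct.includeRight : T →ₐ[S] P ⊗[S] T).toRingHom.Flat := by
  have h3 : (algebraMap T (T ⊗[S] P)).Flat := RingHom.flat_algebraMap_iff.mpr h
  have h4 : (Algebra.TensorProduct.comm S T P).toAlgHom.toRingHom.Flat :=
    RingHom.Flat.of_bijective (Algebra.TensorProduct.comm S T P).bijective
  have h5 := RingHom.Flat.comp h3 h4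
  convert! h5 using 1

/-- the right inclusion into a tensor product with a faithfully flat algebra -/
theorem includeRight_faithfullyFlat (S P T : Type u) [CommRing S] [CommRing P] [CommRing T]
    [Algebra S P] [Algebra S T] [h : Module.FaithfullyFlat S P] :
    (Algebra.TensorProduct.includeRight : T →ₐ[S] P ⊗[S] T).toRingHom.FaithfullyFlat := by
  have h3 : (algebraMap T (T ⊗[S] P)).FaithfullyFlat :=
    RingHom.faithfullyFlat_algebraMap_iff.mpr inferInstance
  have h4 : (Algebra.TensorProduct.comm S T P).toAlgHom.toRingHom.FaithfullyFlat :=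
    RingHom.FaithfullyFlat.of_bijective (Algebra.TensorProduct.comm S T P).bijective
  have h5 := RingHom.FaithfullyFlat.stableUnderComposition _ _ h3 h4
  convert! h5 using 1

section

variable {S T N : Type u} [CommRing S] [CommRing T] [CommRing N] [Algebra S T]
  [Algebra S N] (I : Ideal S) [Algebra (S ⧸ I) N] [IsScalarTower S (S ⧸ I) N]

/-- the comparison isomorphism -/
noncomputable def equiv : N ⊗[S ⧸ I] (T ⧸ I.map (algebraMap S T)) ≃ₐ[N] N ⊗[S] T :=
  (Algebra.TensorProduct.congr AlgEquiv.refl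
    (Algebra.TensorProduct.quotIdealMapEquivQuotTensor T I)).trans
    (Algebra.TensorProduct.cancelBaseChange S (S ⧸ I) N N T)

theorem equiv_tmul_mk (n : N) (t : T) :
    equiv I (n ⊗ₜ[S ⧸ I] (Ideal.Quotient.mk (I.map (algebraMap S T)) t)) = n ⊗ₜ[S] t := by
  change Algebra.TensorProduct.cancelBaseChange S (S ⧸ I) N N T
    (n ⊗ₜ[S ⧸ I] (Algebra.TensorProduct.quotIdealMapEquivQuotTensor T I
      (Ideal.Quotient.mk (I.map (algebraMap S T)) t))) = n ⊗ₜ[S] t
  erw [Algebra.TensorProduct.quotIdealMapEquivQuotTensor_mk,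
    Algebra.TensorProduct.cancelBaseChange_tmul, one_smul]

variable (N) [Algebra T N] [IsScalarTower S T N] [Module.FaithfullyFlat (S ⧸ I) N]

include N

theorem flat_quotient [Module.Flat T N] [Module.Flat T (T ⊗[S] T)] : Module.Flat T (T ⧸ I.map (algebraMap S T)) := by
  let Tb := T ⧸ I.map (algebraMap S T)
  have hκ := includeRight_faithfullyFlat (S ⧸ I) N Tb
  have h0 : Module.Flat T (T ⊗[S] N) := flat_tensor_of_flat S T T N
  have h1 := includeRight_flat S N T
  have h2 : ((equiv (N := N) I).symm.toAlgHom.toRingHom.comp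
    (Algebra.TensorProduct.includeRight : T →ₐ[S] N ⊗[S] T).toRingHom).Flat :=
    RingHom.Flat.comp h1 (RingHom.Flat.of_bijective (equiv (N := N) I).symm.bijective)
  have h3 : (equiv (N := N) I).symm.toAlgHom.toRingHom.comp
    (Algebra.TensorProduct.includeRight : T →ₐ[S] N ⊗[S] T).toRingHom =
      (Algebra.TensorProduct.includeRight : Tb →ₐ[S ⧸ I] N ⊗[S ⧸ I] Tb).toRingHom.comp
        (algebraMap T Tb) := by
    ext t
    change (equiv (N := N) I).symm (1 ⊗ₜ[S] t) = 1 ⊗ₜ[S ⧸ I] (Ideal.Quotient.mk _ t)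
    rw [AlgEquiv.symm_apply_eq, equiv_tmul_mk]
  rw [h3] at h2
  rw [← RingHom.flat_algebraMap_iff]
  exact Groth.Agent.Sga3C.FlatOfComp.ringHom_flat_of_comp _ _ hκ h2

theorem faithfullyFlat_quotient [Module.Flat N (N ⊗[S] T)] : Module.FaithfullyFlat (S ⧸ I) (T ⧸ I.map (algebraMap S T)) := by
  let Tb := T ⧸ I.map (algebraMap S T)
  have hκ := includeRight_faithfullyFlat (S ⧸ I) N Tb
  have h1 : Module.Flat N (N ⊗[S ⧸ I] Tb) := Module.Flat.of_linearEquiv (equiv (N := N) I).toLinearEquiv
  have h2 : ((algebraMap N (N ⊗[S ⧸ I] Tb)).comp (algebraMap (S ⧸ I) N)).Flat :=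
    RingHom.Flat.comp (RingHom.flat_algebraMap_iff.mpr inferInstance)
      (RingHom.flat_algebraMap_iff.mpr h1)
  have h3 : (algebraMap N (N ⊗[S ⧸ I] Tb)).comp (algebraMap (S ⧸ I) N) =
      (Algebra.TensorProduct.includeRight : Tb →ₐ[S ⧸ I] N ⊗[S ⧸ I] Tb).toRingHom.comp
        (algebraMap (S ⧸ I) Tb) := by
    rw [← IsScalarTower.algebraMap_eq]
    exact (Algebra.TensorProduct.includeRight : Tb →ₐ[S ⧸ I] N ⊗[S ⧸ I] Tb).comp_algebraMap.symm
  rw [h3] at h2
  have h4 : (algebraMap (S ⧸ I) Tb).Flat :=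
    Groth.Agent.Sga3C.FlatOfComp.ringHom_flat_of_comp _ _ hκ h2
  have h5 : Module.Flat (S ⧸ I) Tb := RingHom.flat_algebraMap_iff.mp h4
  have hle : I.map (algebraMap S T) ≤ RingHom.ker (algebraMap T N) := by
    rw [Ideal.map_le_iff_le_comap]
    intro x hx
    rw [Ideal.mem_comap, RingHom.mem_ker, ← IsScalarTower.algebraMap_apply S T N,
      IsScalarTower.algebraMap_apply S (S ⧸ I) N, Ideal.Quotient.algebraMap_eq,
      Ideal.Quotient.eq_zero_iff_mem.mpr hx, map_zero]
  let j : Tb →+* N := Ideal.Quotient.lift _ (algebraMap T N) (fun a ha => hle ha)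
  have hj : j.comp (algebraMap (S ⧸ I) Tb) = algebraMap (S ⧸ I) N := by
    apply Ideal.Quotient.ringHom_ext
    ext s
    change algebraMap T N (algebraMap S T s) = algebraMap (S ⧸ I) N (algebraMap S (S ⧸ I) s)
    rw [← IsScalarTower.algebraMap_apply, ← IsScalarTower.algebraMap_apply]
  refine Module.FaithfullyFlat.of_comap_surjective fun x => ?_
  obtain ⟨y, rfl⟩ := PrimeSpectrum.comap_surjective_of_faithfullyFlat (A := S ⧸ I) (B := N) x
  refine ⟨PrimeSpectrum.comap j y, ?_⟩
  rw [← hj, PrimeSpectrum.comap_comp]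
  rfl

end

end Groth.Agent.Sga3.H772.Split
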